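import Cfsg.Agent.H539.Lim.DefsC

/-!
# S5242, piece C2: the even kernel case of Claim T
-/

set_option autoImplicit false

namespace Cfsg.Agent.H405.Lim

open MulAction Cfsg.Agent.H539.Lim

universe u v w

variable {G : Type u} [Group G] [Finite G] {Ω : Type v} [MulAction G Ω] [Finite Ω] {D : Type w} [AddCommGroup D]
  [DistribMulAction G D] [Finite D]

omit [Finite G] [Finite D] in
lemma DFix_eq_top {A : Subgroup G} (h : ∀ a ∈ A, ∀ d : D, a • d = d) : DFix A D = ⊤ := by
  ext d
  exact ⟨fun _ => AddSubgroup.mem_top d, fun _ u hu => h u hu d⟩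

/-- an abelian subgroup acting trivially is a best offender -/
lemma bo_of_triv {A : Subgroup G} (hA : IsAb A) (h : ∀ a ∈ A, ∀ d : D, a • d = d) : BO D A := by
  refine ⟨hA, fun B hB => ?_⟩
  rw [DFix_eq_top h, DFix_eq_top (fun b hb => h b (hB hb))]
  exact Nat.mul_le_mul_right _ (Subgroup.card_le_of_le hB)

omit [Finite G] [Finite D] in
/-- a subgroup acting trivially is norm-good -/
lemma ngood_of_triv {A : Subgroup G} (h : ∀ a ∈ A, ∀ d : D, a • d = d) : NGood 2 D A := by
  intro M _ _ z _ _ a ha _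
  rw [Finset.sum_range_succ, Finset.sum_range_succ, Finset.sum_range_zero, zero_add, pow_zero, pow_one, one_smul,
    h a ha z, two_nsmul]

omit [Finite G] in
lemma isAb_zpowers (a : G) : IsAb (Subgroup.zpowers a) := by
  rintro _ ⟨i, rfl⟩ _ ⟨j, rfl⟩
  exact (Commute.refl a).zpow_zpow i j

omit [Finite G] [Finite D] in
lemma triv_zpowers {a : G} (h : ∀ d : D, a • d = d) : ∀ b ∈ Subgroup.zpowers a, ∀ d : D, b • d = d := by
  intro b hb d
  have h1 : Subgroup.zpowers a ≤ MulAction.stabilizer G d := by
    rw [Subgroup.zpowers_le]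
    exact h d
  exact h1 hb

/-- a transvection generates a best offender -/
lemma bo_of_tv {a : G} {f : D →+ ZMod 2} {z : D} (ha : Tv a f z) : BO D (Subgroup.zpowers a) := by
  have hord : orderOf a = 2 := orderOf_eq_prime (by rw [pow_two]; exact ha.sq) ha.ne_one
  have hcard : Nat.card (Subgroup.zpowers a) = 2 := by rw [Nat.card_zpowers, hord]
  refine ⟨isAb_zpowers a, fun B hB => ?_⟩
  have hdvd : Nat.card B ∣ 2 := by
    rw [← hcard]
    exact Subgroup.card_dvd_of_le hB
  rcases (Nat.dvd_prime Nat.prime_two).1 hdvd with h1 | h1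
  · -- `B = ⊥`
    rw [h1, hcard, one_mul]
    have h2 : DFix (Subgroup.zpowers a) D = f.ker := by
      ext d
      constructor
      · intro hd
        have h3 : a • d = d := hd a (Subgroup.mem_zpowers a)
        rw [ha.act] at h3
        have h4 : (f d).val • z = 0 := by simpa using h3
        rw [AddMonoidHom.mem_ker]
        have h5 : (f d).val < 2 := ZMod.val_lt _
        rcases Nat.lt_or_ge (f d).val 1 with h6 | h6
        · have h7 : (f d).val = 0 := by omega
          exact (ZMod.val_eq_zero _).1 h7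
        · have h7 : (f d).val = 1 := by omega
          rw [h7, one_smul] at h4
          exact absurd h4 ha.z_ne
      · intro hd u hu
        rw [AddMonoidHom.mem_ker] at hd
        have h1 : Subgroup.zpowers a ≤ MulAction.stabilizer G d := by
          rw [Subgroup.zpowers_le, MulAction.mem_stabilizer_iff, ha.act, hd]
          simp
        exact h1 hu
    have h3 : Function.Surjective f := by
      obtain ⟨d, hd⟩ : ∃ d, f d ≠ 0 := by
        by_contra hcon
        push Not at hcon
        exact ha.f_ne (AddMonoidHom.ext hcon)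
      intro t
      rcases eq_or_ne t 0 with rfl | ht
      · exact ⟨0, map_zero f⟩
      · refine ⟨d, ?_⟩
        revert hd ht
        generalize f d = s
        revert s t
        decide
    have h4 : Nat.card D = Nat.card f.ker * 2 := by
      have h5 := AddSubgroup.card_mul_index f.ker
      rw [← h5, AddSubgroup.index_ker, AddMonoidHom.range_eq_top.2 h3]
      simp
    rw [h2]
    have h5 : Nat.card (DFix B D) ≤ Nat.card D :=
      Nat.card_le_card_of_injective (fun d : DFix B D => (d : D)) Subtype.val_injective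
    omega
  · have h2 : B = Subgroup.zpowers a := by
      apply Subgroup.eq_of_le_of_card_ge hB
      rw [h1, hcard]
    rw [h2]

/-- a nontrivial normal subgroup of a `2`-group contains a central involution -/
lemma exists_central_invol {P : Subgroup G} (hP : IsPGroup 2 P) (K : Subgroup G) (hKP : K ≤ P)
    (hK : ∀ g ∈ P, ∀ k ∈ K, g * k * g⁻¹ ∈ K) (hK1 : K ≠ ⊥) :
    ∃ t ∈ K, t ≠ 1 ∧ t * t = 1 ∧ ∀ g ∈ P, g * t = t * g := by
  -- `P` acts on `K` by conjugation
  let act : MulAction P K :=
    { smul := fun g k => ⟨(g : G) * k * (g : G)⁻¹, hK g g.2 k k.2⟩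
      one_smul := fun k => Subtype.ext (by
        show (1 : G) * k * (1 : G)⁻¹ = k
        simp)
      mul_smul := fun g h k => Subtype.ext (by
        show ((g : G) * h) * k * ((g : G) * h)⁻¹ = (g : G) * ((h : G) * k * (h : G)⁻¹) * (g : G)⁻¹
        group) }
  letI := act
  have hact : ∀ (g : P) (k : K), ((g • k : K) : G) = (g : G) * k * (g : G)⁻¹ := fun _ _ => rfl
  haveI : Fact (Nat.Prime 2) := ⟨Nat.prime_two⟩
  have hKp : IsPGroup 2 K := hP.to_le hKP
  haveI : Nontrivial K := K.bot_or_nontrivial.resolve_left hK1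
  have hdvd : 2 ∣ Nat.card K := by
    obtain ⟨n, hn, hc⟩ := hKp.nontrivial_iff_card.1 inferInstance
    rw [hc]
    exact dvd_pow_self 2 (by omega)
  have h1 : (1 : K) ∈ MulAction.fixedPoints P K := by
    intro g
    apply Subtype.ext
    rw [hact]
    simp
  obtain ⟨k, hk, hk1⟩ := hP.exists_fixed_point_of_prime_dvd_card_of_fixed_point K hdvd h1
  have hkc : ∀ g ∈ P, g * (k : G) = k * g := by
    intro g hg
    have h2 := congrArg Subtype.val (hk ⟨g, hg⟩)
    rw [hact] at h2
    simp only at h2
    rw [mul_inv_eq_iff_eq_mul] at h2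
    exact h2
  have hk1' : (k : G) ≠ 1 := fun h => hk1 (Subtype.ext h).symm
  -- an involution in `⟨k⟩`
  obtain ⟨n, hn⟩ := hKp k
  have hn' : (k : G) ^ (2 ^ n) = 1 := by
    have := congrArg Subtype.val hn
    simpa using this
  have hex : ∃ m, (k : G) ^ (2 ^ m) = 1 := ⟨n, hn'⟩
  classical
  let m := Nat.find hex
  have hm : (k : G) ^ (2 ^ m) = 1 := Nat.find_spec hex
  have hm0 : m ≠ 0 := by
    intro h
    rw [h] at hm
    simp at hm
    exact hk1' (by simpa using hm)
  obtain ⟨m', hm'⟩ := Nat.exists_eq_succ_of_ne_zero hm0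
  refine ⟨(k : G) ^ (2 ^ m'), K.pow_mem k.2 _, ?_, ?_, ?_⟩
  · intro h
    exact Nat.find_min hex (show m' < m by omega) h
  · rw [← pow_add, ← two_mul, ← pow_succ']
    rw [hm'] at hm
    exact hm
  · intro g hg
    have : Commute g (k : G) := hkc g hg
    exact this.pow_right _

theorem evenKernel (hD : IsPTors 2 D) {Ω₀ : Finset Ω} (h0 : Orb2 G Ω₀) {c : Ω → Ω → D} (hc : Coc2 G Ω₀ c)
    (hs : ∀ x ∈ Ω₀, ∀ y ∈ Ω₀, stabilizer G x ⊓ stabilizer G y ∈ Qs G D → c x y = 0)
    (hk : ∃ x ∈ Ω₀, ∃ g ∈ stabilizer G x, g ≠ 1 ∧ ∀ d : D, g • d = d) :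
    ∀ x ∈ Ω₀, ∀ y ∈ Ω₀, stabilizer G x ⊓ stabilizer G y ∈ Q1 G D → c x y = 0 := by
  classical
  -- the central involution in every stabilizer
  have hz : ∀ x ∈ Ω₀, ∃ t ∈ stabilizer G x, t ≠ 1 ∧ t * t = 1 ∧ (∀ d : D, t • d = d) ∧
      ∀ g ∈ stabilizer G x, g * t = t * g := by
    obtain ⟨x₀, hx₀, g, hg, hg1, hgD⟩ := hk
    obtain ⟨S, hS⟩ := h0.sylow x₀ hx₀
    have hP : IsPGroup 2 (stabilizer G x₀) := by
      rw [← hS]
      exact S.2
    let K : Subgroup G :=
      { carrier := {k | k ∈ stabilizer G x₀ ∧ ∀ d : D, k • d = d}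
        one_mem' := ⟨one_mem _, fun d => one_smul G d⟩
        mul_mem' := fun {a b} ha hb => ⟨mul_mem ha.1 hb.1, fun d => by rw [mul_smul, hb.2, ha.2]⟩
        inv_mem' := fun {a} ha => ⟨inv_mem ha.1, fun d => by rw [inv_smul_eq_iff, ha.2]⟩ }
    have hKmem : ∀ k, k ∈ K ↔ k ∈ stabilizer G x₀ ∧ ∀ d : D, k • d = d := fun _ => Iff.rfl
    obtain ⟨t, htK, ht1, ht2, htc⟩ := exists_central_invol hP K (fun k hk => hk.1) (by
      intro u hu k hk
      refine ⟨mul_mem (mul_mem hu hk.1) (inv_mem hu), fun d => ?_⟩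
      rw [mul_smul, mul_smul, hk.2, smul_inv_smul]) (by
      intro h
      have : g ∈ K := ⟨hg, hgD⟩
      rw [h, Subgroup.mem_bot] at this
      exact hg1 this)
    intro x hx
    obtain ⟨h, rfl⟩ := h0.trans x₀ hx₀ x hx
    refine ⟨h * t * h⁻¹, ?_, ?_, ?_, ?_, ?_⟩
    · rw [mem_stabilizer_iff, mul_smul, mul_smul, inv_smul_smul, mem_stabilizer_iff.1 htK.1]
    · intro h1
      apply ht1
      have h2 : t = h⁻¹ * (h * t * h⁻¹) * h := by group
      rw [h2, h1]
      group
    · calc h * t * h⁻¹ * (h * t * h⁻¹) = h * (t * t) * h⁻¹ := by group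
        _ = 1 := by rw [ht2]; group
    · intro d
      rw [mul_smul, mul_smul, htK.2, smul_inv_smul]
    · intro g' hg'
      have h1 : h⁻¹ * g' * h ∈ stabilizer G x₀ := by
        rw [mem_stabilizer_iff, mul_smul, mul_smul, mem_stabilizer_iff.1 hg', inv_smul_smul]
      have h2 := htc _ h1
      calc g' * (h * t * h⁻¹) = h * (h⁻¹ * g' * h * t) * h⁻¹ := by group
        _ = h * (t * (h⁻¹ * g' * h)) * h⁻¹ := by rw [h2]
        _ = h * t * h⁻¹ * g' := by group
  -- divisibility by all powers of two
  have hmain : ∀ k : ℕ, ∀ x ∈ Ω₀, ∀ y ∈ Ω₀, stabilizer G x ⊓ stabilizer G y ∈ Q1 G D →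
      ∃ d : D, c x y = (2 ^ k : ℕ) • d := by
    intro k
    induction k with
    | zero =>
      intro x _ y _ _
      exact ⟨c x y, by simp⟩
    | succ k ih =>
      intro x hx x' hx' hQ
      obtain ⟨a, ha, f, z, hT⟩ := hQ
      obtain ⟨hax, hax'⟩ := Subgroup.mem_inf.1 ha
      let N : AddSubgroup D := (nsmulAddMonoidHom (α := D) (2 ^ (k + 1))).range
      have hN : ∀ d : D, (2 ^ (k + 1) : ℕ) • d ∈ N := fun d => ⟨d, rfl⟩
      -- the sums over the fixed points of `a`
      have hsum : ∀ x ∈ Ω₀, a ∈ stabilizer G x →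
          ∑ y ∈ Ω₀.filter (fun y => a • y = y), c x y ∈ N := by
        intro x hx hax
        obtain ⟨t, ht, ht1, ht2, htD, htc⟩ := hz x hx
        rw [← QuotientAddGroup.eq_zero_iff, ← QuotientAddGroup.mk'_apply, map_sum]
        refine Finset.sum_involution (fun y _ => t • y) ?_ ?_ ?_ ?_
        · intro y hy
          obtain ⟨hy0, hya⟩ := Finset.mem_filter.1 hy
          have h1 : c x (t • y) = c x y := by
            have h2 := hc.equiv t x y
            rw [mem_stabilizer_iff.1 ht, htD] at h2
            exact h2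
          obtain ⟨d, hd⟩ := ih x hx y hy0 ⟨a, Subgroup.mem_inf.2 ⟨hax, hya⟩, f, z, hT⟩
          rw [h1, ← map_add, ← two_nsmul, hd, smul_smul, ← pow_succ', QuotientAddGroup.mk'_apply,
            QuotientAddGroup.eq_zero_iff]
          exact hN d
        · intro y hy hne hty
          apply hne
          obtain ⟨hy0, hya⟩ := Finset.mem_filter.1 hy
          have h1 : c x y = 0 := by
            apply hs x hx y hy0
            refine ⟨Subgroup.zpowers t, ?_, ?_, bo_of_triv (isAb_zpowers t) (triv_zpowers htD),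
              ngood_of_triv (triv_zpowers htD)⟩
            · rw [Subgroup.zpowers_le]
              exact Subgroup.mem_inf.2 ⟨ht, hty⟩
            · rw [Ne, Subgroup.zpowers_eq_bot]
              exact ht1
          rw [h1, map_zero]
        · intro y hy
          obtain ⟨hy0, hya⟩ := Finset.mem_filter.1 hy
          refine Finset.mem_filter.2 ⟨h0.smul_mem t y hy0, ?_⟩
          rw [smul_smul, htc a hax, mul_smul, hya]
        · intro y hy
          rw [smul_smul, ht2, one_smul]
      have h1 := hsum x hx hax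
      have h2 := hsum x' hx' hax'
      -- the number of fixed points is odd
      have hodd : Odd (Ω₀.filter (fun y => a • y = y)).card := by
        have h3 : (((Ω₀.filter (fun y => ¬ a • y = y)).card : ℕ) : ZMod 2) = 0 := by
          rw [Finset.card_eq_sum_ones, Nat.cast_sum]
          refine Finset.sum_involution (fun y _ => a • y) ?_ ?_ ?_ ?_
          · intro y hy
            decide
          · intro y hy _
            exact (Finset.mem_filter.1 hy).2
          · intro y hy
            obtain ⟨hy0, hya⟩ := Finset.mem_filter.1 hy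
            refine Finset.mem_filter.2 ⟨h0.smul_mem a y hy0, ?_⟩
            intro h
            exact hya (MulAction.injective a h)
          · intro y hy
            rw [smul_smul, hT.sq, one_smul]
        rw [ZMod.natCast_eq_zero_iff_even] at h3
        have h4 := Finset.card_filter_add_card_filter_not (s := Ω₀) (fun y => a • y = y)
        have h5 := h0.odd
        rw [← h4] at h5
        exact (Nat.odd_add.1 h5).2 h3
      have h4 : (Ω₀.filter (fun y => a • y = y)).card • c x x' ∈ N := by
        have h5 : ∑ y ∈ Ω₀.filter (fun y => a • y = y), c x y =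
            ∑ y ∈ Ω₀.filter (fun y => a • y = y), (c x x' + c x' y) := by
          apply Finset.sum_congr rfl
          intro y hy
          obtain ⟨hy0, hya⟩ := Finset.mem_filter.1 hy
          apply hc.coc x hx x' hx' y hy0
          refine ⟨Subgroup.zpowers a, ?_, ?_, bo_of_tv hT⟩
          · rw [Subgroup.zpowers_le]
            exact Subgroup.mem_inf.2 ⟨ha, hya⟩
          · rw [Ne, Subgroup.zpowers_eq_bot]
            exact hT.ne_one
        rw [Finset.sum_add_distrib, Finset.sum_const] at h5
        have h6 : (Ω₀.filter (fun y => a • y = y)).card • c x x' =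
            ∑ y ∈ Ω₀.filter (fun y => a • y = y), c x y - ∑ y ∈ Ω₀.filter (fun y => a • y = y), c x' y := by
          rw [h5, add_sub_cancel_right]
        rw [h6]
        exact N.sub_mem h1 h2
      have hmem : c x x' ∈ N := by
        have hcop : Nat.Coprime (Ω₀.filter (fun y => a • y = y)).card (2 ^ (k + 1)) :=
          Nat.Coprime.pow_right _ (Nat.coprime_two_right.2 hodd)
        have hbez := Nat.gcd_eq_gcd_ab (Ω₀.filter (fun y => a • y = y)).card (2 ^ (k + 1))
        rw [hcop.gcd_eq_one] at hbez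
        generalize (Ω₀.filter (fun y => a • y = y)).card = n at h4 hbez
        have h5 : c x x' = (n.gcdA (2 ^ (k + 1))) • (n • c x x') +
            (n.gcdB (2 ^ (k + 1))) • ((2 ^ (k + 1) : ℕ) • c x x') := by
          rw [← natCast_zsmul (c x x') n, ← natCast_zsmul (c x x') (2 ^ (k + 1)), smul_smul, smul_smul, ← add_smul,
            mul_comm _ (n : ℤ), mul_comm _ (((2 ^ (k + 1) : ℕ)) : ℤ), ← hbez]
          simp
        rw [h5]
        exact N.add_mem (N.zsmul_mem h4 _) (N.zsmul_mem (hN _) _)
      obtain ⟨d, hd⟩ := hmem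
      exact ⟨d, hd.symm⟩
  -- `2 ^ k` kills `D` for large `k`
  have hexp : ∃ k : ℕ, ∀ d : D, (2 ^ k : ℕ) • d = 0 := by
    haveI := Fintype.ofFinite D
    choose kd hkd using hD
    refine ⟨Finset.univ.sup kd, fun d => ?_⟩
    have h1 : kd d ≤ Finset.univ.sup kd := Finset.le_sup (Finset.mem_univ d)
    obtain ⟨r, hr⟩ := Nat.exists_eq_add_of_le h1
    rw [hr, pow_add, mul_comm, mul_smul, hkd, smul_zero]
  intro x hx y hy hQ
  obtain ⟨k, hk⟩ := hexp
  obtain ⟨d, hd⟩ := hmain k x hx y hy hQ
  rw [hd, hk]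

end Cfsg.Agent.H405.Lim
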